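import Groth.Agent.FlatMor2.Chevalley.Norm
import Groth.Agent.FlatMor2.AffineThickening
import Groth.Agent.FlatMor2.QuasiAffineChevalley
import Groth.Agent.BlowUpBasics.IdealComap
import Mathlib.AlgebraicGeometry.FunctionField
import Mathlib.AlgebraicGeometry.QuasiAffine
import Mathlib.FieldTheory.IntermediateField.Adjoin.Algebra

/-!
# The integral case of Chevalley's theorem
-/

set_option autoImplicit false
set_option linter.style.haveILetI false

universe u

open CategoryTheory CategoryTheory.Limits AlgebraicGeometry TopologicalSpace Opposite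

namespace Groth.FlatMor2.Chevalley

variable {X Z : Scheme.{u}} [IsIntegral X] [IsIntegral Z] (g : Z ⟶ X) [Surjective g]

lemma apply_genericPoint : g (genericPoint Z) = genericPoint X := by
  refine IsGenericPoint.eq ?_ (genericPoint_spec X)
  have h := (genericPoint_spec Z).image g.continuous
  rwa [Set.image_univ, g.surjective.range_eq, closure_univ] at h

/-- The map of function fields. -/
noncomputable def ffMap : X.functionField ⟶ Z.functionField :=
  (X.presheaf.stalkCongr (.of_eq (apply_genericPoint g))).inv ≫ g.stalkMap (genericPoint Z)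

lemma nonempty_preimage (U : X.Opens) [hU : Nonempty U] : Nonempty (g ⁻¹ᵁ U) := by
  obtain ⟨⟨x, hx⟩⟩ := hU
  obtain ⟨z, rfl⟩ := g.surjective x
  exact ⟨⟨z, hx⟩⟩

lemma ffMap_germ (U : X.Opens) [Nonempty U] [Nonempty (g ⁻¹ᵁ U)] (a : Γ(X, U)) :
    ffMap g (X.germToFunctionField U a) = Z.germToFunctionField (g ⁻¹ᵁ U) (g.app U a) := by
  simp only [ffMap, CommRingCat.comp_apply, TopCat.Presheaf.stalkCongr_inv,
    Scheme.germToFunctionField, TopCat.Presheaf.germ_stalkSpecializes_apply,
    Scheme.Hom.germ_stalkMap_apply]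

/-- The extension of function fields of a finite surjective morphism is finite. -/
lemma finiteDimensional_ffMap [IsFinite g] : (ffMap g).hom.Finite := by
  classical
  obtain ⟨U, hU, hηU, -⟩ :=
    exists_isAffineOpen_mem_and_subset (U := (⊤ : X.Opens)) (x := genericPoint X) trivial
  have : Nonempty U := ⟨⟨_, hηU⟩⟩
  have := nonempty_preimage g U
  let := (ffMap g).hom.toAlgebra
  let := (g.app U).hom.toAlgebra
  have : Module.Finite Γ(X, U) Γ(Z, g ⁻¹ᵁ U) := g.finite_app _ hU
  have := functionField_isFractionRing_of_isAffineOpen Z (g ⁻¹ᵁ U) (hU.preimage g)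
  obtain ⟨t, ht⟩ := (inferInstance : Module.Finite Γ(X, U) Γ(Z, g ⁻¹ᵁ U)).fg_top
  have hint : ∀ b : Γ(Z, g ⁻¹ᵁ U), IsIntegral X.functionField (Z.germToFunctionField (g ⁻¹ᵁ U) b) := by
    intro b
    obtain ⟨p, hp, hpb⟩ := Algebra.IsIntegral.isIntegral (R := Γ(X, U)) b
    refine ⟨p.map (X.germToFunctionField U).hom, hp.map _, ?_⟩
    rw [Polynomial.eval₂_map]
    have : (algebraMap X.functionField Z.functionField).comp (X.germToFunctionField U).hom =
        (Z.germToFunctionField (g ⁻¹ᵁ U)).hom.comp (algebraMap Γ(X, U) Γ(Z, g ⁻¹ᵁ U)) :=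
      RingHom.ext fun a => ffMap_germ g U a
    rw [this, ← Polynomial.hom_eval₂, hpb, map_zero]
  let F := IntermediateField.adjoin X.functionField
    ((fun b => Z.germToFunctionField (g ⁻¹ᵁ U) b) '' (t : Set Γ(Z, g ⁻¹ᵁ U)))
  have : FiniteDimensional X.functionField F := by
    have : Finite ((fun b => Z.germToFunctionField (g ⁻¹ᵁ U) b) '' (t : Set Γ(Z, g ⁻¹ᵁ U))) :=
      (t.finite_toSet.image _).to_subtype
    refine IntermediateField.finiteDimensional_adjoin ?_
    rintro _ ⟨b, -, rfl⟩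
    exact hint b
  have hB : ∀ b : Γ(Z, g ⁻¹ᵁ U), Z.germToFunctionField (g ⁻¹ᵁ U) b ∈ F := by
    intro b
    have hb : b ∈ Submodule.span Γ(X, U) (t : Set Γ(Z, g ⁻¹ᵁ U)) := ht ▸ Submodule.mem_top
    induction hb using Submodule.span_induction with
    | mem x hx => exact IntermediateField.subset_adjoin _ _ ⟨x, hx, rfl⟩
    | zero => rw [map_zero]; exact F.zero_mem
    | add x y _ _ hx hy => rw [map_add]; exact F.add_mem hx hy
    | smul r x _ hx =>
      rw [Algebra.smul_def, map_mul]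
      refine F.mul_mem ?_ hx
      rw [show Z.germToFunctionField (g ⁻¹ᵁ U) (algebraMap Γ(X, U) Γ(Z, g ⁻¹ᵁ U) r) =
        algebraMap X.functionField Z.functionField (X.germToFunctionField U r) from (ffMap_germ g U r).symm]
      exact F.algebraMap_mem _
  have hF : F = ⊤ := by
    refine eq_top_iff.mpr fun l _ => ?_
    obtain ⟨b, c, hc, rfl⟩ := IsFractionRing.div_surjective (A := Γ(Z, g ⁻¹ᵁ U)) l
    exact F.div_mem (hB b) (hB c)
  have : FiniteDimensional X.functionField (⊤ : IntermediateField X.functionField Z.functionField) :=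
    hF ▸ (inferInstance : FiniteDimensional X.functionField F)
  exact (IntermediateField.topEquiv (F := X.functionField) (E := Z.functionField)).toLinearEquiv.finiteDimensional

/-- Compatibility of sections along a commutative square. -/
lemma app_of_sq {P W X Z : Scheme.{u}} {q : P ⟶ W} {i : W ⟶ X} {j : P ⟶ Z} {g : Z ⟶ X}
    (w : q ≫ i = j ≫ g) (φ : Γ(W, ⊤)) (b : Γ(Z, ⊤)) (hb : j.appTop b = q.appTop φ) (V : X.Opens)
    (a : Γ(X, V)) (ha : i.app V a = W.presheaf.map (homOfLE (le_top : i ⁻¹ᵁ V ≤ ⊤)).op φ) :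
    j.app (g ⁻¹ᵁ V) (Z.presheaf.map (homOfLE (le_top : g ⁻¹ᵁ V ≤ ⊤)).op b - g.app V a) = 0 := by
  have h1 : j.app (g ⁻¹ᵁ V) (Z.presheaf.map (homOfLE (le_top : g ⁻¹ᵁ V ≤ ⊤)).op b) =
      P.presheaf.map (homOfLE (le_top : j ⁻¹ᵁ g ⁻¹ᵁ V ≤ ⊤)).op (q.appTop φ) := by
    rw [← hb]
    exact ConcreteCategory.congr_hom (j.naturality (homOfLE (le_top : g ⁻¹ᵁ V ≤ ⊤)).op) b
  have h2 : j.app (g ⁻¹ᵁ V) (g.app V a) =
      P.presheaf.map (eqToHom (congrArg (fun h : P ⟶ X => h ⁻¹ᵁ V) w).symm).op
        (q.app (i ⁻¹ᵁ V) (i.app V a)) := by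
    exact ConcreteCategory.congr_hom (Scheme.Hom.congr_app w.symm V) a
  rw [map_sub, h1, h2, ha, sub_eq_zero]
  have h3 := ConcreteCategory.congr_hom (q.naturality (homOfLE (le_top : i ⁻¹ᵁ V ≤ ⊤)).op) φ
  refine Eq.symm ((congrArg _ h3).trans ?_)
  show (P.presheaf.map _ ≫ P.presheaf.map _) (q.appTop φ) = _
  rw [← P.presheaf.map_comp]
  rfl

/-- Chevalley's theorem for integral schemes all of whose proper reduced closed subschemes are affine. -/
theorem exists_basicOpen [IsNoetherian X] [IsAffine Z] [IsFinite g]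
    (H : ∀ T : Closeds X, (T : Set X) ≠ Set.univ →
      IsAffine (Scheme.IdealSheafData.vanishingIdeal T).subscheme)
    (x : X) (hx : IsClosed ({x} : Set X)) (hxη : x ≠ genericPoint X) :
    ∃ r : Γ(X, ⊤), IsAffineOpen (X.basicOpen r) ∧ x ∈ X.basicOpen r := by
  classical
  obtain ⟨U, hU, hxU, -⟩ := exists_isAffineOpen_mem_and_subset (U := (⊤ : X.Opens)) (x := x) trivial
  have hη : ∀ {V : X.Opens}, (V : Set X).Nonempty → genericPoint X ∈ V := fun {V} h =>
    ((genericPoint_spec X).mem_open_set_iff V.isOpen).mpr (by simpa using h)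
  let K := X.functionField
  let L := Z.functionField
  let : Algebra K L := (ffMap g).hom.toAlgebra
  have : FiniteDimensional K L := finiteDimensional_ffMap g
  let bas := Module.finBasis K L
  -- denominators on the members of a finite affine cover
  obtain ⟨ι, _, V, hV, hcov⟩ : ∃ (ι : Type u) (_ : Fintype ι) (V : ι → X.affineOpens),
      (∀ l, genericPoint X ∈ (V l).1) ∧ ∀ y : X, ∃ l, y ∈ (V l).1 := by
    obtain ⟨t, ht⟩ := isCompact_univ.elim_finite_subcover
      (fun V : {V : X.affineOpens // genericPoint X ∈ V.1} => ((V.1.1 : X.Opens) : Set X))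
      (fun V => V.1.1.isOpen) fun y _ => by
        obtain ⟨V, hV, hyV, -⟩ := exists_isAffineOpen_mem_and_subset (U := (⊤ : X.Opens)) (x := y) trivial
        exact Set.mem_iUnion.mpr ⟨⟨⟨V, hV⟩, hη ⟨y, hyV⟩⟩, hyV⟩
    refine ⟨t, inferInstance, fun l => l.1.1, fun l => l.1.2, fun y => ?_⟩
    obtain ⟨V, hV, hy⟩ := Set.mem_iUnion₂.mp (ht (Set.mem_univ y))
    exact ⟨⟨V, hV⟩, hy⟩
  haveI : ∀ l, Nonempty (V l).1 := fun l => ⟨⟨_, hV l⟩⟩
  haveI : ∀ l, Nonempty (g ⁻¹ᵁ (V l).1) := fun l => nonempty_preimage g _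
  have hK : ∀ l, IsFractionRing Γ(X, (V l).1) K := fun l =>
    functionField_isFractionRing_of_isAffineOpen X (V l).1 (V l).2
  have hcomp : ∀ l (a : Γ(X, (V l).1)),
      (Z.germToFunctionField (g ⁻¹ᵁ (V l).1)).hom ((g.app (V l).1).hom a) =
        algebraMap K L (algebraMap Γ(X, (V l).1) K a) := fun l a => (ffMap_germ g _ a).symm
  choose s hs hden using fun l => have := hK l
    exists_matrix_den bas (g.app (V l).1).hom (Z.germToFunctionField (g ⁻¹ᵁ (V l).1)).hom
      (g.finite_app _ (V l).2) (hcomp l)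
  -- the closed set
  let T : Closeds X := ⟨(U : Set X)ᶜ ∪ {x} ∪ ⋃ l, (X.basicOpen (s l) : Set X)ᶜ,
    (U.isOpen.isClosed_compl.union hx).union
      (isClosed_iUnion_of_finite fun l => (X.basicOpen (s l)).isOpen.isClosed_compl)⟩
  have hT : (T : Set X) ≠ Set.univ := fun h => by
    rcases h.ge (Set.mem_univ (genericPoint X)) with (h1 | h1) | h1
    · exact h1 (hη ⟨x, hxU⟩)
    · exact hxη h1.symm
    · obtain ⟨l, hl⟩ := Set.mem_iUnion.mp h1
      refine hl ((X.mem_basicOpen (s l) _ (hV l)).mpr (isUnit_iff_ne_zero.mpr fun h0 => ?_))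
      exact nonZeroDivisors.ne_zero (hs l)
        (germ_injective_of_isIntegral X _ (hV l) (h0.trans (map_zero _).symm))
  let J := Scheme.IdealSheafData.vanishingIdeal T
  have hJaff : IsAffine J.subscheme := H T hT
  have hJk : ∀ l, ∃ k : ℕ, J.ideal (V l) ^ k ≤ Ideal.span {s l} := fun l => by
    have : IsNoetherianRing Γ(X, (V l).1) := IsLocallyNoetherian.component_noetherian (V l)
    refine Ideal.exists_pow_le_of_le_radical_of_fg ?_ (IsNoetherian.noetherian _)
    intro j hj
    rw [Ideal.radical_eq_sInf, Ideal.mem_sInf]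
    rintro p ⟨hsp, hp⟩
    by_contra hjp
    let y := (V l).2.fromSpec ⟨p, hp⟩
    have hy : y ∈ (V l).1 := (V l).2.range_fromSpec.le ⟨_, rfl⟩
    have hyj : y ∈ X.basicOpen j := by
      have : (⟨p, hp⟩ : PrimeSpectrum _) ∈ (V l).2.fromSpec ⁻¹ᵁ X.basicOpen j := by
        rw [(V l).2.fromSpec_preimage_basicOpen]; exact hjp
      exact this
    have hys : y ∉ X.basicOpen (s l) := fun h => by
      have : (⟨p, hp⟩ : PrimeSpectrum _) ∈ (V l).2.fromSpec ⁻¹ᵁ X.basicOpen (s l) := h
      rw [(V l).2.fromSpec_preimage_basicOpen] at this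
      exact this (hsp (Ideal.mem_span_singleton_self _))
    have hyT : y ∈ (J.support : Set X) := by
      rw [Scheme.IdealSheafData.coe_support_vanishingIdeal]
      exact Or.inr (Set.mem_iUnion.mpr ⟨l, hys⟩)
    exact (X.mem_zeroLocus_iff _ y).mp
      ((J.mem_support_iff_of_mem hy).mp hyT) j hj hyj
  choose k hk using hJk
  let k₀ := (Finset.univ : Finset ι).sup k
  have hk₀ : ∀ l, J.ideal (V l) ^ k₀ ≤ Ideal.span {s l} := fun l =>
    (Ideal.pow_le_pow_right (Finset.le_sup (Finset.mem_univ l))).trans (hk l)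
  -- the thickened closed subscheme
  let I := J ^ (k₀ + 1)
  have hIJ : I ≤ J := fun W => by
    show (J ^ (k₀ + 1)).ideal W ≤ J.ideal W
    simpa using Ideal.pow_le_self (I := J.ideal W) (Nat.succ_ne_zero k₀)
  let incl := Scheme.IdealSheafData.inclusion hIJ
  have hincl : incl ≫ I.subschemeι = J.subschemeι := Scheme.IdealSheafData.inclusion_subschemeι hIJ
  have : IsClosedImmersion (incl ≫ I.subschemeι) := by rw [hincl]; infer_instance
  have : IsClosedImmersion incl := IsClosedImmersion.of_comp_isClosedImmersion incl I.subschemeι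
  have : Surjective incl := ⟨fun w => by
    have hw : I.subschemeι w ∈ Set.range J.subschemeι := by
      rw [J.range_subschemeι, ← Scheme.IdealSheafData.support_pow (I := J) (k₀ + 1) (Nat.succ_ne_zero _),
        ← I.range_subschemeι]
      exact ⟨w, rfl⟩
    obtain ⟨v, hv⟩ := hw
    refine ⟨v, I.subschemeι.isClosedEmbedding.injective ?_⟩
    rw [← Scheme.Hom.comp_apply, hincl, hv]⟩
  have := hJaff
  have : IsAffine I.subscheme := isAffine_of_surjective_closedImmersion incl
  -- a function on it, lifted to the affine scheme upstairs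
  obtain ⟨w₀, hw₀⟩ : x ∈ Set.range I.subschemeι := by
    rw [I.range_subschemeι, Scheme.IdealSheafData.support_pow (I := J) (k₀ + 1) (Nat.succ_ne_zero _),
      Scheme.IdealSheafData.coe_support_vanishingIdeal]
    exact Or.inl (Or.inr rfl)
  obtain ⟨_, ⟨_, ⟨φ, rfl⟩, rfl⟩, hwφ, hφU⟩ := (isBasis_basicOpen I.subscheme).exists_subset_of_mem_open
    (show w₀ ∈ (I.subschemeι ⁻¹ᵁ U : Set I.subscheme) from show I.subschemeι w₀ ∈ U from hw₀.symm ▸ hxU)
    (I.subschemeι ⁻¹ᵁ U).isOpen
  let P := (I.comap g).subscheme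
  let j := (I.comap g).subschemeι
  let q : P ⟶ I.subscheme := (I.comapIso g).hom ≫ pullback.snd g I.subschemeι
  have hq : q ≫ I.subschemeι = j ≫ g := by
    simp only [q, j, Category.assoc, ← pullback.condition, Scheme.IdealSheafData.comapIso_hom_fst_assoc]
  obtain ⟨b, hb⟩ := (I.comap g).subschemeι_app_surjective ⟨⊤, isAffineOpen_top Z⟩ (q.appTop φ)
  have key : ∀ l, ∃ (h a : Γ(X, (V l).1)),
      algebraMap Γ(X, (V l).1) K h = Algebra.norm K (Z.germToFunctionField (g ⁻¹ᵁ (V l).1)
        (Z.presheaf.map (homOfLE (le_top : g ⁻¹ᵁ (V l).1 ≤ ⊤)).op b)) ∧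
      h - a ^ Fintype.card (Fin (Module.finrank K L)) ∈ J.ideal (V l) ∧
      I.subschemeι.app (V l).1 a =
        I.subscheme.presheaf.map (homOfLE (le_top : I.subschemeι ⁻¹ᵁ (V l).1 ≤ ⊤)).op φ := fun l => by
    have := hK l
    obtain ⟨a, ha⟩ := I.subschemeι_app_surjective (V l)
      (I.subscheme.presheaf.map (homOfLE (le_top : I.subschemeι ⁻¹ᵁ (V l).1 ≤ ⊤)).op φ)
    let W : Z.affineOpens := ⟨g ⁻¹ᵁ (V l).1, (V l).2.preimage g⟩
    have hε : Z.presheaf.map (homOfLE (le_top : g ⁻¹ᵁ (V l).1 ≤ ⊤)).op b - g.app (V l).1 a ∈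
        (J.ideal (V l) ^ (k₀ + 1)).map (g.app (V l).1).hom := by
      have h0 : Z.presheaf.map (homOfLE (le_top : g ⁻¹ᵁ (V l).1 ≤ ⊤)).op b - g.app (V l).1 a ∈
          (I.comap g).ideal W := by
        rw [← Scheme.IdealSheafData.ker_subschemeι_app]
        exact app_of_sq hq φ b hb (V l).1 a ha
      rw [BlowUpBasics.ideal_comap g I (V l) W le_rfl, ← Scheme.Hom.app_eq_appLE] at h0
      have hI : I.ideal (V l) = J.ideal (V l) ^ (k₀ + 1) := by simp [I]
      rwa [hI] at h0
    obtain ⟨h, hh, hha⟩ := exists_norm_sub_mem bas _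
      (Z.germToFunctionField (g ⁻¹ᵁ (V l).1)).hom (hcomp l) (hden l) _ k₀ (hk₀ l) a _ hε
    exact ⟨h, a, by rw [hh, add_sub_cancel], hha, ha⟩
  choose h a hnorm hsub ha using key
  -- glue
  obtain ⟨r, hr, -⟩ := X.sheaf.existsUnique_gluing' (fun l => (V l).1) ⊤ (fun l => homOfLE le_top)
    (fun y _ => Opens.mem_iSup.mpr (hcov y)) h (fun l l' => by
      have hm : genericPoint X ∈ (V l).1 ⊓ (V l').1 := ⟨hV l, hV l'⟩
      apply germ_injective_of_isIntegral X _ hm
      show X.presheaf.germ _ _ hm (X.presheaf.map _ (h l)) = X.presheaf.germ _ _ hm (X.presheaf.map _ (h l'))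
      rw [TopCat.Presheaf.germ_res_apply, TopCat.Presheaf.germ_res_apply]
      refine (hnorm l).trans (Eq.trans ?_ (hnorm l').symm)
      congr 1
      simp only [Scheme.germToFunctionField, TopCat.Presheaf.germ_res_apply])
  have hpos : Fintype.card (Fin (Module.finrank K L)) ≠ 0 := by
    rw [Fintype.card_fin]
    exact (Module.finrank_pos (R := K) (M := L)).ne'
  have hiff : ∀ v : J.subscheme, J.subschemeι v ∈ X.basicOpen r ↔ incl v ∈ I.subscheme.basicOpen φ := by
    intro v
    obtain ⟨l, hl⟩ := hcov (J.subschemeι v)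
    have e1 : J.subschemeι v ∈ X.basicOpen r ↔ J.subschemeι v ∈ X.basicOpen (h l) := by
      rw [← hr l]
      refine ⟨fun h' => ?_, fun h' => ?_⟩
      · exact (X.basicOpen_res r (homOfLE le_top).op).ge ⟨hl, h'⟩
      · exact ((X.basicOpen_res r (homOfLE le_top).op).le h').2
    have e2 : J.subschemeι.app (V l).1 (h l) =
        J.subschemeι.app (V l).1 (a l) ^ Fintype.card (Fin (Module.finrank K L)) := by
      rw [← map_pow, ← sub_eq_zero, ← map_sub]
      have := hsub l
      rw [← Scheme.IdealSheafData.ker_subschemeι_app] at this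
      exact this
    have e3 : J.subschemeι v ∈ X.basicOpen (h l) ↔ J.subschemeι v ∈ X.basicOpen (a l) := by
      rw [← Scheme.Hom.mem_preimage, Scheme.preimage_basicOpen, e2,
        Scheme.basicOpen_pow _ _ (Nat.pos_of_ne_zero hpos), ← Scheme.preimage_basicOpen, Scheme.Hom.mem_preimage]
    rw [e1, e3, show J.subschemeι v = I.subschemeι (incl v) by rw [← Scheme.Hom.comp_apply, hincl],
      ← Scheme.Hom.mem_preimage, Scheme.preimage_basicOpen, ha l]
    refine ⟨fun h' => ((I.subscheme.basicOpen_res φ _).le h').2, fun h' => ?_⟩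
    refine (I.subscheme.basicOpen_res φ _).ge ⟨?_, h'⟩
    show I.subschemeι (incl v) ∈ (V l).1
    rwa [← Scheme.Hom.comp_apply, hincl]
  obtain ⟨v₀, rfl⟩ := incl.surjective w₀
  have hle : X.basicOpen r ≤ U := fun y hy => by
    by_contra hyU
    obtain ⟨v, rfl⟩ : y ∈ Set.range J.subschemeι := by
      rw [J.range_subschemeι, Scheme.IdealSheafData.coe_support_vanishingIdeal]
      exact Or.inl (Or.inl hyU)
    refine hyU ?_
    rw [← hincl, Scheme.Hom.comp_apply]
    exact hφU ((hiff v).mp hy)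
  refine ⟨r, ?_, ?_⟩
  · have e := X.basicOpen_res r (homOfLE (le_top : U ≤ ⊤)).op
    rw [inf_eq_right.mpr hle] at e
    exact e ▸ hU.basicOpen _
  · have hx0 : J.subschemeι v₀ = x := by rw [← hincl, Scheme.Hom.comp_apply, hw₀]
    exact hx0 ▸ (hiff v₀).mpr hwφ

/-- An integral scheme all of whose proper closed subschemes are affine, with a finite surjection
from an affine integral scheme, is affine. -/
theorem isAffine_of_integral [IsNoetherian X] [IsAffine Z] [IsFinite g]
    (H : ∀ T : Closeds X, (T : Set X) ≠ Set.univ →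
      IsAffine (Scheme.IdealSheafData.vanishingIdeal T).subscheme) : IsAffine X := by
  by_cases hpt : IsClosed ({genericPoint X} : Set X)
  · obtain ⟨U, hU, hηU, -⟩ :=
      exists_isAffineOpen_mem_and_subset (U := (⊤ : X.Opens)) (x := genericPoint X) trivial
    have hU' : U = ⊤ := eq_top_iff.mpr fun y _ => by
      have : y ∈ closure ({genericPoint X} : Set X) := by
        rw [(genericPoint_spec X).def]; trivial
      rw [hpt.closure_eq] at this
      exact (Set.mem_singleton_iff.mp this) ▸ hηU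
    have : IsAffine (⊤ : X.Opens).toScheme := hU' ▸ hU
    exact IsAffine.of_isIso X.topIso.inv
  have : X.IsQuasiAffine := .of_forall_exists_mem_basicOpen X fun y => by
    obtain ⟨x, hyx, hxc⟩ := isClosed_closure.exists_closed_singleton
      (S := closure ({y} : Set X)) ⟨y, subset_closure rfl⟩
    obtain ⟨r, hr, hxr⟩ := exists_basicOpen g H x hxc (fun h => hpt (h ▸ hxc))
    exact ⟨r, hr, (specializes_iff_mem_closure.mpr hyx).mem_open (X.basicOpen r).2 hxr⟩
  have : IsFinite ((g ≫ X.toSpecΓ) ∣_ X.toSpecΓ.opensRange) := by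
    rw [morphismRestrict_comp]
    have h1 : IsFinite (g ∣_ X.toSpecΓ ⁻¹ᵁ X.toSpecΓ.opensRange) :=
      IsZariskiLocalAtTarget.restrict ‹IsFinite g› _
    have hs : Surjective (X.toSpecΓ ∣_ X.toSpecΓ.opensRange) := ⟨fun ⟨_, y, hy⟩ =>
      ⟨⟨y, ⟨y, rfl⟩⟩, Subtype.ext (by simpa [morphismRestrict_base_coe] using hy)⟩⟩
    have h2 : IsIso (X.toSpecΓ ∣_ X.toSpecΓ.opensRange) := by
      have : Epi (X.toSpecΓ ∣_ X.toSpecΓ.opensRange).base := (TopCat.epi_iff_surjective _).mpr hs.1
      exact IsOpenImmersion.isIso _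
    exact MorphismProperty.comp_mem @IsFinite _ _ h1 inferInstance
  have hU : IsAffineOpen X.toSpecΓ.opensRange := by
    refine isAffineOpen_of_integral_surjective (g ≫ X.toSpecΓ) _ ?_ ?_
      ((IsFinite.iff_isIntegralHom_and_locallyOfFiniteType _).mp this).1
    · exact isCompact_range X.toSpecΓ.continuous
    · rw [show ⇑(g ≫ X.toSpecΓ) = X.toSpecΓ ∘ g from rfl, Set.range_comp, g.surjective.range_eq,
        Set.image_univ]
      rfl
  have : IsAffine X.toSpecΓ.opensRange.toScheme := hU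
  exact IsAffine.of_isIso X.toSpecΓ.isoOpensRange.hom

end Groth.FlatMor2.Chevalley
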