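import Groth.Agent.FlatMor2.Chevalley.Integral
import Groth.Agent.VarietyBC.AffineUnion
import Groth.Agent.PropsBasic2.Reduced

/-!
# Chevalley's theorem for Noetherian schemes
-/

set_option autoImplicit false
set_option linter.style.haveILetI false

universe u

open CategoryTheory CategoryTheory.Limits AlgebraicGeometry TopologicalSpace

namespace Groth.FlatMor2.Chevalley

variable {X Z : Scheme.{u}}

/-- The source of a finite surjection onto an integral scheme can be replaced by an integral one. -/
lemma exists_integral_dominating [IsIntegral X] (g : Z ⟶ X) [IsFinite g] [Surjective g] [IsAffine Z] :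
    ∃ (Z₁ : Scheme.{u}) (g₁ : Z₁ ⟶ X), IsIntegral Z₁ ∧ IsAffine Z₁ ∧ IsFinite g₁ ∧ Surjective g₁ := by
  obtain ⟨z, hz⟩ := g.surjective (genericPoint X)
  let C : Closeds Z := ⟨closure {z}, isClosed_closure⟩
  let I := Scheme.IdealSheafData.vanishingIdeal C
  have hr : Set.range I.subschemeι = closure {z} := by
    rw [I.range_subschemeι, Scheme.IdealSheafData.coe_support_vanishingIdeal]; rfl
  have : IsAffine I.subscheme := isAffine_of_isAffineHom I.subschemeι
  have : IrreducibleSpace I.subscheme := by
    have h1 : IsIrreducible (Set.univ : Set I.subscheme) := by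
      have hemb := I.subschemeι.isClosedEmbedding
      refine ⟨?_, ?_⟩
      · obtain ⟨p, -⟩ : z ∈ Set.range I.subschemeι := hr.symm ▸ subset_closure rfl
        exact ⟨p, trivial⟩
      · rintro O₁ O₂ hu hv ⟨a, -, ha⟩ ⟨b, -, hb⟩
        obtain ⟨u', hu', rfl⟩ := hemb.isInducing.isOpen_iff.mp hu
        obtain ⟨v', hv', rfl⟩ := hemb.isInducing.isOpen_iff.mp hv
        obtain ⟨c, hc, hcu, hcv⟩ := (isIrreducible_singleton (x := z)).closure.2 u' v' hu' hv'
          ⟨I.subschemeι a, hr.le ⟨a, rfl⟩, ha⟩ ⟨I.subschemeι b, hr.le ⟨b, rfl⟩, hb⟩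
        obtain ⟨d, rfl⟩ := hr.ge hc
        exact ⟨d, trivial, hcu, hcv⟩
    exact { toPreirreducibleSpace := ⟨h1.2⟩, toNonempty := ⟨h1.1.some⟩ }
  have : IsReduced I.subscheme := Groth.PropsBasic2.isReduced_vanishingIdeal_subscheme C
  have : IsIntegral I.subscheme := isIntegral_of_irreducibleSpace_of_isReduced _
  refine ⟨_, I.subschemeι ≫ g, ‹_›, ‹_›, inferInstance, ⟨fun x => ?_⟩⟩
  have hcl : IsClosed (g '' closure {z}) := g.isClosedMap _ isClosed_closure
  have hx : x ∈ g '' closure {z} := by
    refine hcl.closure_subset_iff.mpr (Set.singleton_subset_iff.mpr ⟨z, subset_closure rfl, hz⟩) ?_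
    rw [(genericPoint_spec X).def]; trivial
  obtain ⟨y, hy, rfl⟩ := hx
  obtain ⟨p, rfl⟩ : y ∈ Set.range I.subschemeι := hr.symm ▸ hy
  exact ⟨p, rfl⟩

/-- Chevalley's theorem for reduced closed subschemes. -/
theorem isAffine_of_reduced_closed [IsNoetherian X] (g : Z ⟶ X) [IsFinite g] [Surjective g] [IsAffine Z]
    (T : Closeds X) : ∀ (Y : Scheme.{u}) (i : Y ⟶ X), IsReduced Y → IsClosedImmersion i →
      Set.range i = (T : Set X) → IsAffine Y := by
  induction T using WellFoundedLT.induction with
  | _ T ih =>
  intro Y i hY hi hrange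
  have hsub : ∀ (C : Closeds Y), (C : Set Y) ≠ Set.univ →
      IsAffine (Scheme.IdealSheafData.vanishingIdeal C).subscheme := by
    intro C hC
    let I := Scheme.IdealSheafData.vanishingIdeal C
    let T' : Closeds X := ⟨i '' (C : Set Y), i.isClosedEmbedding.isClosedMap _ C.isClosed⟩
    have hr : Set.range (I.subschemeι ≫ i) = (T' : Set X) := by
      rw [show ⇑(I.subschemeι ≫ i) = i ∘ I.subschemeι from rfl, Set.range_comp, I.range_subschemeι,
        Scheme.IdealSheafData.coe_support_vanishingIdeal]
      rfl
    have hlt : T' < T := by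
      refine lt_of_le_of_ne (fun x hx => ?_) fun h => hC (Set.eq_univ_of_forall fun y => ?_)
      · obtain ⟨y, -, rfl⟩ := hx
        exact hrange.le ⟨y, rfl⟩
      · have : i y ∈ (T' : Set X) := by rw [h]; exact hrange.le ⟨y, rfl⟩
        obtain ⟨y', hy', e⟩ := this
        exact i.isClosedEmbedding.injective e ▸ hy'
    exact ih T' hlt _ (I.subschemeι ≫ i) (Groth.PropsBasic2.isReduced_vanishingIdeal_subscheme C) inferInstance hr
  rcases isEmpty_or_nonempty Y with he | hne
  · exact isAffine_of_isEmpty
  by_cases hirr : IsPreirreducible (Set.univ : Set Y)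
  · have : IrreducibleSpace Y := { toPreirreducibleSpace := ⟨hirr⟩, toNonempty := hne }
    have : IsIntegral Y := isIntegral_of_irreducibleSpace_of_isReduced Y
    have : IsLocallyNoetherian Y := LocallyOfFiniteType.isLocallyNoetherian i
    have : CompactSpace Y := i.isClosedEmbedding.compactSpace
    have : IsNoetherian Y := ⟨⟩
    have : IsFinite (pullback.snd g i) := inferInstance
    have : Surjective (pullback.snd g i) := inferInstance
    have : IsAffine (pullback g i) := isAffine_of_isAffineHom (pullback.fst g i)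
    obtain ⟨Z₁, g₁, _, _, _, _⟩ := exists_integral_dominating (pullback.snd g i)
    exact isAffine_of_integral g₁ hsub
  · rw [isPreirreducible_iff_isClosed_union_isClosed] at hirr
    push Not at hirr
    obtain ⟨C₁, C₂, hC₁, hC₂, hU, h1, h2⟩ := hirr
    have := hsub ⟨C₁, hC₁⟩ fun h => h1 h.ge
    have := hsub ⟨C₂, hC₂⟩ fun h => h2 h.ge
    refine VarietyBC.AffineUnion.isAffine_of_closedImmersions
      (Scheme.IdealSheafData.vanishingIdeal ⟨C₁, hC₁⟩).subschemeι
      (Scheme.IdealSheafData.vanishingIdeal ⟨C₂, hC₂⟩).subschemeι fun y => ?_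
    simp only [Scheme.IdealSheafData.range_subschemeι,
      Scheme.IdealSheafData.coe_support_vanishingIdeal]
    simpa using hU (Set.mem_univ y)

/-- Chevalley's theorem: a Noetherian scheme with a finite surjection from an affine scheme is affine. -/
theorem isAffine_of_finite_surjective [IsNoetherian X] (g : Z ⟶ X) [IsFinite g] [Surjective g]
    [IsAffine Z] : IsAffine X := by
  let I := Scheme.IdealSheafData.vanishingIdeal (⊤ : Closeds X)
  have hr : Set.range I.subschemeι = ((⊤ : Closeds X) : Set X) := by
    rw [I.range_subschemeι, Scheme.IdealSheafData.coe_support_vanishingIdeal]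
  have : IsReduced I.subscheme := Groth.PropsBasic2.isReduced_vanishingIdeal_subscheme ⊤
  have : IsAffine I.subscheme :=
    isAffine_of_reduced_closed g ⊤ _ I.subschemeι ‹_› inferInstance hr
  have : Surjective I.subschemeι := ⟨fun x => hr.ge (by trivial)⟩
  exact isAffine_of_surjective_closedImmersion I.subschemeι

end Groth.FlatMor2.Chevalley
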