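import Groth.Agent.FlatMor2.Chevalley.Noetherian
import Groth.Agent.Limits.DescentStage
import Groth.Agent.Limits.IntegralApprox
import Groth.Agent.Limits.Approximation
import Groth.Agent.SpectralTopology.DescendFP

/-!
# Chevalley's theorem without Noetherian hypotheses
-/

set_option autoImplicit false
set_option linter.style.haveILetI false

universe u

open CategoryTheory CategoryTheory.Limits AlgebraicGeometry TopologicalSpace Opposite
open Groth.Limits

namespace Groth.FlatMor2.Chevalley

variable {S Z : Scheme.{u}}

/-- A closed range containing the image of a dominant morphism is everything. -/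
lemma surjective_of_dominant {A B C : Scheme.{u}} (q : A ⟶ B) [IsDominant q] (p : C ⟶ B)
    [UniversallyClosed p] (h : Set.range q ⊆ Set.range p) : Surjective p := by
  refine ⟨fun b => ?_⟩
  have h1 : closure (Set.range q) ⊆ Set.range p :=
    closure_minimal h p.isClosedMap.isClosed_range
  rw [(IsDominant.denseRange (f := q)).closure_range] at h1
  exact h1 (Set.mem_univ b)

/-- Chevalley's theorem for finite morphisms of finite presentation. -/
theorem isAffine_of_finite_fp_surjective [CompactSpace S] [QuasiSeparatedSpace S] (g : Z ⟶ S)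
    [IsFinite g] [LocallyOfFinitePresentation g] [Surjective g] [IsAffine Z] : IsAffine S := by
  obtain ⟨A⟩ := exists_zsystem S
  have : ∀ (i j : A.Iᵒᵖ) (m : i ⟶ j), IsAffineHom (A.D.map m) := A.affine
  have : ∀ i, CompactSpace (A.D.obj i) := A.compact
  have : QuasiCompact g := inferInstance
  have : QuasiSeparated g := inferInstance
  have : LocallyOfFinitePresentation (g : Z ⟶ A.cone.pt) := ‹_›
  obtain ⟨i₀, ⟨M⟩⟩ := SpectralTopology.exists_stageModel A.isLimit g
  have := M.lfp
  have := M.qc
  have := M.qs
  let D' := Over.forget i₀ ⋙ A.D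
  let c' := A.cone.whisker (Over.forget i₀)
  have hc' : IsLimit c' := (Functor.Initial.isLimitWhiskerEquiv (Over.forget i₀) A.cone).symm A.isLimit
  let t := overTrans A.D i₀
  let τ : S ⟶ A.D.obj i₀ := A.π.app i₀
  have hτ : ∀ j, c'.π.app j ≫ t.app j = τ := fun j => A.cone.w j.hom
  let cX := bcCone t M.hom c' τ hτ
  have hcX : IsLimit cX := isLimitBcCone t M.hom c' τ hτ hc'
  let e : Z ≅ pullback M.hom τ := M.sq.isoPullback
  have : IsAffine cX.pt := IsAffine.of_isIso e.inv
  have : IsFinite (pullback.snd M.hom τ) := by
    rw [← MorphismProperty.cancel_left_of_respectsIso @IsFinite e.hom, M.sq.isoPullback_hom_snd]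
    infer_instance
  have : ∀ (i j : Over i₀) (m : i ⟶ j), IsAffineHom (D'.map m) := fun i j m => A.affine _ _ m.left
  have : ∀ j, QuasiCompact ((bcTrans t M.hom).app j) := fun j =>
    inferInstanceAs (QuasiCompact (pullback.snd M.hom (t.app j)))
  have : ∀ j, QuasiSeparated ((bcTrans t M.hom).app j) := fun j =>
    inferInstanceAs (QuasiSeparated (pullback.snd M.hom (t.app j)))
  have : ∀ j, LocallyOfFiniteType ((bcTrans t M.hom).app j) := fun j =>
    inferInstanceAs (LocallyOfFiniteType (pullback.snd M.hom (t.app j)))
  have : CompactSpace (D'.obj (Over.mk (𝟙 i₀))) := A.compact _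
  let f' : cX.pt ⟶ c'.pt := pullback.snd M.hom τ
  have : IsIntegralHom f' :=
    ((IsFinite.iff_isIntegralHom_and_locallyOfFiniteType _).mp ‹IsFinite (pullback.snd M.hom τ)›).1
  obtain ⟨k, -, hk⟩ := exists_isFinite (bcTrans t M.hom) hcX hc' f'
    (bcCone_w t M.hom c' τ hτ) (Over.mk (𝟙 i₀)) (fun _ _ _ => liftMap_bcTrans t M.hom @IsFinite _)
  have : ∀ j, CompactSpace ((bcDiagram t M.hom).obj j) := fun j => by
    have : CompactSpace (D'.obj j) := A.compact _
    exact QuasiCompact.compactSpace_of_compactSpace ((bcTrans t M.hom).app j)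
  have : ∀ j, QuasiSeparatedSpace ((bcDiagram t M.hom).obj j) := fun j => by
    have : QuasiSeparatedSpace (D'.obj j) := inferInstanceAs (QuasiSeparatedSpace (A.D.obj j.left))
    exact quasiSeparatedSpace_of_quasiSeparated ((bcTrans t M.hom).app j)
  obtain ⟨l, hl⟩ := Scheme.exists_isAffine_of_isLimit (bcDiagram t M.hom) cX hcX
  obtain ⟨m, mk, ml, -⟩ := IsCofilteredOrEmpty.cone_objs k l
  let f := (bcTrans t M.hom).app m
  have : IsFinite f := MorphismProperty.of_isPullback (P := @IsFinite)
    (isPullback_bcTrans t M.hom mk) hk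
  have : IsAffine ((bcDiagram t M.hom).obj m) := isAffine_of_isAffineHom ((bcDiagram t M.hom).map ml)
  -- the closure of the image in the stage
  let π := c'.π.app m
  have : IsAffineHom π := isAffineHom_π_app _ _ hc' m
  have : IsNoetherian (D'.obj m) := A.isNoetherian m.left
  have : CompactSpace S := ‹_›
  have : QuasiCompact π := inferInstance
  let C := π.image
  have : IsLocallyNoetherian C := LocallyOfFiniteType.isLocallyNoetherian π.imageι
  have : CompactSpace C := π.imageι.isClosedEmbedding.compactSpace
  have : IsNoetherian C := ⟨⟩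
  let g₁ := pullback.snd f π.imageι
  have : IsAffine (pullback f π.imageι) := isAffine_of_isAffineHom (pullback.fst f π.imageι)
  have : Surjective g₁ := surjective_of_dominant π.toImage g₁ fun y ⟨s, hs⟩ => by
    obtain ⟨z, rfl⟩ := g.surjective s
    let p := e.hom ≫ cX.π.app m
    have hp : p ≫ f = (g ≫ π.toImage) ≫ π.imageι := by
      refine Eq.trans ?_ (by rw [Category.assoc, Scheme.Hom.toImage_imageι] :
        g ≫ π = (g ≫ π.toImage) ≫ π.imageι)
      calc p ≫ f = e.hom ≫ (pullback.snd M.hom τ ≫ π) := by
            rw [show pullback.snd M.hom τ ≫ π = cX.π.app m ≫ f from bcCone_w t M.hom c' τ hτ m]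
            exact Category.assoc _ _ _
        _ = g ≫ π := by rw [← Category.assoc]; exact congrArg (· ≫ π) M.sq.isoPullback_hom_snd
    refine ⟨pullback.lift p (g ≫ π.toImage) hp z, ?_⟩
    rw [← hs, ← Scheme.Hom.comp_apply, pullback.lift_snd]
    rfl
  have : IsAffine C := isAffine_of_finite_surjective g₁
  have : IsAffineHom (π.toImage ≫ π.imageι) := by rw [Scheme.Hom.toImage_imageι]; infer_instance
  have : IsAffineHom π.toImage := .of_comp _ π.imageι
  exact isAffine_of_isAffineHom π.toImage

lemma qcqs_of_isFinite {Y : Scheme.{u}} [CompactSpace S] [QuasiSeparatedSpace S] (q : Y ⟶ S)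
    [IsFinite q] : CompactSpace Y ∧ QuasiSeparatedSpace Y :=
  ⟨QuasiCompact.compactSpace_of_compactSpace q, quasiSeparatedSpace_of_quasiSeparated q⟩

/-- Chevalley's theorem: a qcqs scheme with an integral surjection from an affine scheme is affine. -/
theorem isAffine_of_integral_surjective [CompactSpace S] [QuasiSeparatedSpace S] (g : Z ⟶ S)
    [IsIntegralHom g] [Surjective g] [IsAffine Z] : IsAffine S := by
  obtain ⟨R⟩ := exists_relSystem g
  obtain ⟨I, _, _, _, D, c, hc, hD, ⟨e⟩⟩ := R.exists_finite_fp_system
  have : ∀ i, IsFinite (D.obj i).hom := fun i => (hD i).1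
  have : ∀ i, LocallyOfFinitePresentation (D.obj i).hom := fun i => (hD i).2
  have : IsConnected Iᵒᵖ := IsCofiltered.isConnected _
  let c₁ := (Over.forget S).mapCone c
  have hc₁ : IsLimit c₁ := isLimitOfPreserves (Over.forget S) hc
  have : ∀ {i j : Iᵒᵖ} (a : i ⟶ j), IsAffineHom ((D ⋙ Over.forget S).map a) := fun {i j} a => by
    have : IsAffineHom ((D.map a).left ≫ (D.obj j).hom) := by rw [Over.w]; infer_instance
    exact .of_comp (D.map a).left (D.obj j).hom
  have : ∀ i, CompactSpace ((D ⋙ Over.forget S).obj i) := fun i =>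
    (@qcqs_of_isFinite S _ _ _ (D.obj i).hom (hD i).1).1
  have : ∀ i, QuasiSeparatedSpace ((D ⋙ Over.forget S).obj i) := fun i =>
    (@qcqs_of_isFinite S _ _ _ (D.obj i).hom (hD i).1).2
  have : IsAffine ((Over.forget S).obj (Over.mk g)) := ‹IsAffine Z›
  have : IsAffine c₁.pt := IsAffine.of_isIso ((Over.forget S).map e.hom)
  obtain ⟨i, hi⟩ := Scheme.exists_isAffine_of_isLimit (D ⋙ Over.forget S) c₁ hc₁
  have : IsAffine (D.obj i).left := hi
  have : Surjective (D.obj i).hom := ⟨fun s => by
    obtain ⟨z, rfl⟩ := g.surjective s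
    refine ⟨(e.inv ≫ c.π.app i).left z, ?_⟩
    rw [← Scheme.Hom.comp_apply, Over.w]
    rfl⟩
  exact isAffine_of_finite_fp_surjective (D.obj i).hom

/-- The range of the diagonal of the target of a universally closed surjection from a separated scheme. -/
theorem isSeparated_of_surjective_universallyClosed {X : Scheme.{u}} [X.IsSeparated] (f : X ⟶ S)
    [Surjective f] [UniversallyClosed f] : S.IsSeparated := by
  let T := terminal.from S
  have : IsSeparated (f ≫ T) := by rw [terminal.comp_from]; exact inferInstance
  let F : pullback (f ≫ T) (f ≫ T) ⟶ pullback T T :=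
    pullback.map _ _ _ _ f f (𝟙 _) (by simp) (by simp)
  have : UniversallyClosed F := by
    have := MorphismProperty.pullbackMap (P := @UniversallyClosed)
      (f := f ≫ T) (g := f ≫ T) (f' := T) (g' := T) (i₁ := f) (i₂ := f) inferInstance inferInstance
      (by simp) (by simp)
    exact this
  have hd : pullback.diagonal (f ≫ T) ≫ F = f ≫ pullback.diagonal T := by
    apply pullback.hom_ext
    · rw [Category.assoc, pullback.lift_fst, pullback.diagonal_fst_assoc, Category.assoc,
        pullback.diagonal_fst, Category.comp_id]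
    · rw [Category.assoc, pullback.lift_snd, pullback.diagonal_snd_assoc, Category.assoc,
        pullback.diagonal_snd, Category.comp_id]
  have hcl : IsClosed (Set.range (pullback.diagonal T)) := by
    have h1 : Set.range (pullback.diagonal T) = F '' Set.range (pullback.diagonal (f ≫ T)) := by
      rw [← Set.range_comp, show ⇑F ∘ ⇑(pullback.diagonal (f ≫ T)) =
        ⇑(pullback.diagonal (f ≫ T) ≫ F) from rfl, hd,
        show ⇑(f ≫ pullback.diagonal T) = ⇑(pullback.diagonal T) ∘ ⇑f from rfl, Set.range_comp,
        f.surjective.range_eq, Set.image_univ]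
    rw [h1]
    exact F.isClosedMap _ (pullback.diagonal (f ≫ T)).isClosedEmbedding.isClosed_range
  have : IsClosedImmersion (pullback.diagonal T) :=
    IsClosedImmersion.of_isPreimmersion _ hcl
  exact ⟨⟨this⟩⟩

/-- A scheme with a universally closed surjection from an affine scheme is affine. -/
theorem isAffine_of_universallyClosed_surjective {X : Scheme.{u}} [IsAffine X] (f : X ⟶ S)
    [Surjective f] [UniversallyClosed f] : IsAffine S := by
  have := isSeparated_of_surjective_universallyClosed f
  have : CompactSpace S := ⟨f.surjective.range_eq ▸ isCompact_range f.continuous⟩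
  have : IsAffineHom f := by
    have : IsAffineHom (f ≫ terminal.from S) := by rw [terminal.comp_from]; infer_instance
    exact MorphismProperty.of_postcomp (W := @IsAffineHom) (W' := @IsSeparated) f (terminal.from S)
      inferInstance this
  have : IsIntegralHom f :=
    IsIntegralHom.iff_universallyClosed_and_isAffineHom.2 ⟨inferInstance, inferInstance⟩
  exact isAffine_of_integral_surjective f

end Groth.FlatMor2.Chevalley
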