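import Mathlib.RingTheory.Norm.Basic
import Mathlib.RingTheory.Localization.Integer
import Mathlib.RingTheory.Localization.FractionRing
import Mathlib.RingTheory.Finiteness.Basic

/-!
# Norms of elements congruent to elements of the base
-/

set_option autoImplicit false

universe u

open Matrix

namespace Groth.FlatMor2.Chevalley

variable {A B K L ι : Type*} [CommRing A] [CommRing B] [Field K] [CommRing L] [Algebra A K]
  [Algebra K L] [Fintype ι] [DecidableEq ι] (bas : Module.Basis ι K L) (φ : A →+* B) (ψ : B →+* L)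

/-- The matrices of multiplication by elements of a finite algebra have bounded denominators. -/
theorem exists_matrix_den [IsFractionRing A K] (hfin : φ.Finite)
    (hcomp : ∀ a, ψ (φ a) = algebraMap K L (algebraMap A K a)) :
    ∃ s ∈ nonZeroDivisors A, ∀ (b : B) (i j : ι), ∃ a : A,
      algebraMap A K a = algebraMap A K s * Algebra.leftMulMatrix bas (ψ b) i j := by
  classical
  algebraize [φ]
  obtain ⟨t, ht⟩ := (inferInstance : Module.Finite A B).fg_top
  obtain ⟨s, hs⟩ := IsLocalization.exist_integer_multiples_of_finset (nonZeroDivisors A)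
    ((t ×ˢ (Finset.univ : Finset (ι × ι))).image fun p : B × ι × ι =>
      Algebra.leftMulMatrix bas (ψ p.1) p.2.1 p.2.2)
  refine ⟨s, s.2, fun b i j => ?_⟩
  have hb : b ∈ Submodule.span A (t : Set B) := ht ▸ Submodule.mem_top
  induction hb using Submodule.span_induction with
  | mem x hx =>
    obtain ⟨a, ha⟩ := hs _ (Finset.mem_image.mpr
      ⟨(x, i, j), Finset.mem_product.mpr ⟨hx, Finset.mem_univ _⟩, rfl⟩)
    exact ⟨a, ha.trans (Algebra.smul_def _ _)⟩
  | zero => exact ⟨0, by simp⟩
  | add x y _ _ hx hy =>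
    obtain ⟨a, ha⟩ := hx
    obtain ⟨c, hc⟩ := hy
    exact ⟨a + c, by rw [map_add, ha, hc, map_add, map_add, Matrix.add_apply, mul_add]⟩
  | smul r x _ hx =>
    obtain ⟨a, ha⟩ := hx
    refine ⟨r * a, ?_⟩
    rw [Algebra.smul_def r x, map_mul ψ, show ψ (algebraMap A B r) = _ from hcomp r,
      map_mul (Algebra.leftMulMatrix bas), AlgHom.commutes, ← Algebra.smul_def (algebraMap A K r)
        (Algebra.leftMulMatrix bas (ψ x)), Matrix.smul_apply, map_mul, ha, smul_eq_mul]
    ring

/-- Norms of elements congruent to an element of the base modulo a small ideal lie in the base. -/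
theorem exists_norm_sub_mem (hcomp : ∀ a, ψ (φ a) = algebraMap K L (algebraMap A K a)) {s : A}
    (hs : ∀ (b : B) (i j : ι), ∃ a : A,
      algebraMap A K a = algebraMap A K s * Algebra.leftMulMatrix bas (ψ b) i j)
    (J : Ideal A) (k : ℕ) (hJ : J ^ k ≤ Ideal.span {s}) (a : A) (ε : B)
    (hε : ε ∈ (J ^ (k + 1)).map φ) :
    ∃ h : A, algebraMap A K h = Algebra.norm K (ψ (φ a + ε)) ∧ h - a ^ Fintype.card ι ∈ J := by
  classical
  suffices ∀ b : B, ∃ N : Matrix ι ι A, (∀ i j, N i j ∈ J) ∧
      N.map (algebraMap A K) = Algebra.leftMulMatrix bas (ψ (b * ε)) by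
    obtain ⟨N, hNJ, hN⟩ := this 1
    refine ⟨(a • (1 : Matrix ι ι A) + N).det, ?_, ?_⟩
    · rw [Algebra.norm_eq_matrix_det bas, RingHom.map_det]
      congr 1
      rw [map_add ψ, map_add (Algebra.leftMulMatrix bas), hcomp, AlgHom.commutes, ← one_mul ε, ← hN]
      ext i j
      simp [Matrix.algebraMap_matrix_apply, Matrix.one_apply, apply_ite (algebraMap A K)]
    · rw [← Ideal.Quotient.eq, map_pow, RingHom.map_det]
      have : (Ideal.Quotient.mk J).mapMatrix (a • (1 : Matrix ι ι A) + N) =
          Ideal.Quotient.mk J a • (1 : Matrix ι ι (A ⧸ J)) := by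
        ext i j
        simp [Matrix.one_apply, apply_ite (Ideal.Quotient.mk J),
          Ideal.Quotient.eq_zero_iff_mem.mpr (hNJ i j)]
      rw [this, Matrix.det_smul, Matrix.det_one, mul_one]
  rw [Ideal.map] at hε
  induction hε using Submodule.span_induction with
  | mem x hx =>
    obtain ⟨i₀, hi₀, rfl⟩ := hx
    have : i₀ ∈ Ideal.span {s} * J := Ideal.mul_mono_left hJ (pow_succ J k ▸ hi₀)
    obtain ⟨c, hc, rfl⟩ := Ideal.mem_span_singleton_mul.mp this
    intro b
    choose e he using hs b
    refine ⟨Matrix.of fun i j => c * e i j, fun i j => J.mul_mem_right _ hc, ?_⟩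
    ext i j
    rw [mul_comm b, map_mul ψ, hcomp, ← Algebra.smul_def, map_smul, Matrix.smul_apply,
      Matrix.map_apply, Matrix.of_apply, map_mul, he, map_mul, smul_eq_mul]
    ring
  | zero => exact fun b => ⟨0, fun _ _ => J.zero_mem, by simp⟩
  | add x y _ _ hx hy =>
    intro b
    obtain ⟨N, hN, hN'⟩ := hx b
    obtain ⟨M, hM, hM'⟩ := hy b
    exact ⟨N + M, fun i j => J.add_mem (hN i j) (hM i j),
      by rw [Matrix.map_add _ (map_add _), hN', hM', mul_add, map_add, map_add]⟩
  | smul r x _ hx =>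
    intro b
    obtain ⟨N, hN, hN'⟩ := hx (b * r)
    exact ⟨N, hN, by rw [hN', smul_eq_mul, mul_assoc]⟩

end Groth.FlatMor2.Chevalley
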